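import Mathlib
import Cfsg.Agent.H105.SzU2_m3
import Cfsg.Agent.H955.QMinus
import Cfsg.Agent.S0289
import Cfsg.Agent.S0290
import Cfsg.Agent.OddHalf.Quat.KTwoOf_m3
import Cfsg.Agent.FastGrp
import Cfsg.Agent.Prune
set_option linter.all false
prune_inst 0x7f00000000000000000000000000000000000000000000000000000000000000000000000000000000000000000000000000000000000000000000000000000000000000000000000000000000000000003fffffffffffffffffffffffffffbeffbdffffffff
open scoped Cfsg.Agent.FastGrp

/-!
# S2273, `POmega(q)`, `q` even: the counting step (helper508)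

`e4b`: `a`, `b` isometries with `a + a⁻¹ = c ≠ 0`, `(a v, v) = c Q v` and the same for `b` with `d ≠ 0`
cannot have `E Q = C(a) C(b)`.
-/

set_option autoImplicit false
set_option linter.unusedSectionVars false

namespace Cfsg.Agent.H508.Sz

open Module QuadraticMap Cfsg.Agent.LieClassical.OrthCore Cfsg.Agent.LieClassical.OrthTrans
  Cfsg.Agent.LieClassical.OrthFinite Cfsg.Agent.H955 Cfsg.Agent.H105.Sz Cfsg.Agent.H105.SzO
  Cfsg.Agent.LieClassical

universe u v w

/-! ### the number of vectors of norm one -/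

section Count

/-- squares in a finite field of characteristic two -/
theorem exists_sq {K : Type*} [Field K] [Finite K] [CharP K 2] (c : K) : ∃ d : K, d * d = c := by
  obtain ⟨d, hd⟩ := FiniteField.isSquare_of_char_two (F := K) (by
    exact (CharP.eq K inferInstance (ringChar.charP K)).symm) c
  exact ⟨d, hd.symm⟩

theorem sq_inj {K : Type*} [Field K] [CharP K 2] {c d : K} (h : c * c = d * d) : c = d := by
  have h2 : (2 : K) = 0 := CharTwo.two_eq_zero
  have h1 : (c - d) * (c - d) = 0 := by linear_combination h - (c * d - d * d) * h2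
  have := mul_self_eq_zero.1 h1
  linear_combination this

theorem card_ne_zero_eq {K : Type*} [Field K] [Finite K] [CharP K 2] {U : Type*} [AddCommGroup U] [Module K U]
    [Finite U] (R : QuadraticForm K U) :
    Nat.card {v : U // R v ≠ 0} = (Nat.card K - 1) * Nat.card {v : U // R v = 1} := by
  have hu : Nat.card Kˣ = Nat.card K - 1 := Nat.card_units K
  rw [← hu, ← Nat.card_prod]
  refine (Nat.card_congr (Equiv.ofBijective (fun p : Kˣ × {v : U // R v = 1} =>
    (⟨(p.1 : K) • p.2.1, ?_⟩ : {v : U // R v ≠ 0})) ⟨?_, ?_⟩)).symm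
  · rw [QuadraticMap.map_smul, p.2.2, smul_eq_mul, mul_one]
    exact mul_ne_zero p.1.ne_zero p.1.ne_zero
  · rintro ⟨c, v, hv⟩ ⟨d, w, hw⟩ h
    have h1 : (c : K) • v = (d : K) • w := congrArg Subtype.val h
    have h2 := congrArg R h1
    rw [QuadraticMap.map_smul, QuadraticMap.map_smul, hv, hw, smul_eq_mul, smul_eq_mul, mul_one,
      mul_one] at h2
    have h3 : c = d := Units.ext (sq_inj h2)
    subst h3
    have h4 : v = w := by
      have := congrArg (fun z => ((c⁻¹ : Kˣ) : K) • z) h1
      simpa [smul_smul] using this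
    subst h4
    rfl
  · rintro ⟨v, hv⟩
    obtain ⟨d, hd⟩ := exists_sq (R v)
    have hd0 : d ≠ 0 := by
      rintro rfl
      exact hv (by rw [← hd, mul_zero])
    refine ⟨(Units.mk0 d hd0, ⟨d⁻¹ • v, ?_⟩), ?_⟩
    · rw [QuadraticMap.map_smul, ← hd, smul_eq_mul]
      field_simp
    · apply Subtype.ext
      change d • d⁻¹ • v = v
      rw [smul_smul, mul_inv_cancel₀ hd0, one_smul]

/-- the number of vectors of norm one -/
theorem card_one {K : Type*} [Field K] [Finite K] [CharP K 2] {U : Type*} [AddCommGroup U] [Module K U]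
    [FiniteDimensional K U] {R : QuadraticForm K U} (hR : Nondeg R) {m : ℕ} (hm : 1 ≤ m)
    (hd : finrank K U = 2 * m) :
    ∃ t, Odd t ∧ Nat.card {v : U // R v = 1} = Nat.card K ^ (m - 1) * t := by
  have := Fintype.ofFinite K
  have hfin : Finite U := Module.finite_of_finite K
  set q := Nat.card K with hq
  have hq' : Fintype.card K = q := by rw [hq, Nat.card_eq_fintype_card]
  have hq1 : 1 < q := by rw [← hq']; exact Fintype.one_lt_card
  have heven : Even q := by
    obtain ⟨n, hp, hn⟩ := FiniteField.card K 2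
    rw [← hq', hn]
    exact even_two.pow_of_ne_zero (by have := n.pos; omega)
  have hU : Nat.card U = q ^ (2 * m) := by
    rw [Module.natCard_eq_pow_finrank (K := K), hd]
  have hsplit : Nat.card U = Nat.card {v : U // R v = 0} + Nat.card {v : U // R v ≠ 0} := by
    classical
    rw [← Nat.card_sum]
    exact Nat.card_congr (Equiv.sumCompl (fun v : U => R v = 0)).symm
  rw [card_ne_zero_eq, hU, ← hq] at hsplit
  clear_value q
  obtain ⟨k, rfl⟩ : ∃ k, m = k + 1 := ⟨m - 1, by omega⟩
  have e1 : 2 * (k + 1) - 1 = k + (k + 1) := by omega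
  obtain ⟨s, rfl⟩ : ∃ s, q = s + 1 := ⟨q - 1, by omega⟩
  rw [Nat.add_sub_cancel] at hsplit
  rw [Nat.add_sub_cancel]
  have hs : 0 < s := by omega
  have hpk : 1 ≤ (s + 1) ^ (k + 1) := Nat.one_le_pow _ _ (by omega)
  by_cases hP : IsPlus R
  · obtain ⟨e, he⟩ := exists_plus_equiv (k + 1) R hR hd hP
    have h0 : Nat.card {v : U // R v = 0} = (s + 1) ^ (2 * (k + 1) - 1) + (s + 1) ^ (k + 1) - (s + 1) ^ k := by
      have := Cfsg.Agent.S0289.result (F := K) hq' (k + 1) (by omega)
      rw [Nat.add_sub_cancel] at this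
      rw [← this]
      refine Nat.card_congr (e.toEquiv.subtypeEquiv fun v => ?_)
      rw [← QuadForms.coe_plusForm, ← he v]
      rfl
    refine ⟨(s + 1) ^ (k + 1) - 1, ?_, ?_⟩
    · exact Nat.Even.sub_odd hpk (heven.pow_of_ne_zero (by omega)) odd_one
    · rw [h0, e1, pow_add] at hsplit
      apply Nat.eq_of_mul_eq_mul_left hs
      have e2 : (s + 1) ^ (2 * (k + 1)) = (s + 1) ^ (k + 1) * (s + 1) ^ (k + 1) := by ring
      rw [e2] at hsplit
      obtain ⟨t, ht⟩ : ∃ t, (s + 1) ^ (k + 1) = t + 1 := ⟨(s + 1) ^ (k + 1) - 1, by omega⟩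
      have e3 : (s + 1) ^ (k + 1) = (s + 1) ^ k * (s + 1) := pow_succ _ _
      rw [ht, Nat.add_sub_cancel]
      rw [ht] at hsplit e3
      generalize (s + 1) ^ k = P at *
      generalize Nat.card {v : U // R v = 1} = N at *
      have e4 : P ≤ P * (t + 1) + (t + 1) := by nlinarith only []
      zify [e4] at hsplit ⊢
      zify at e3
      linear_combination -hsplit + (t : ℤ) * e3
  · obtain ⟨a, b, hab⟩ := exists_aniso_coeff K
    obtain ⟨e, he⟩ := exists_minus_equiv hab k R hR hd hP
    have h0 : Nat.card {v : U // R v = 0} = (s + 1) ^ (2 * (k + 1) - 1) + (s + 1) ^ k - (s + 1) ^ (k + 1) := by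
      have := Cfsg.Agent.S0290.result (F := K) hq' (k + 1) (by omega) a b hab
      rw [Nat.add_sub_cancel] at this
      rw [← this]
      refine Nat.card_congr (e.toEquiv.subtypeEquiv fun v => ?_)
      rw [← QuadForms.coe_minusForm, ← he v]
      rfl
    refine ⟨(s + 1) ^ (k + 1) + 1, (heven.pow_of_ne_zero (by omega)).add_one, ?_⟩
    rw [h0, e1, pow_add] at hsplit
    apply Nat.eq_of_mul_eq_mul_left hs
    have e2 : (s + 1) ^ (2 * (k + 1)) = (s + 1) ^ (k + 1) * (s + 1) ^ (k + 1) := by ring
    rw [e2] at hsplit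
    have hP1 : 1 ≤ (s + 1) ^ k := Nat.one_le_pow _ _ (by omega)
    have e3 : (s + 1) ^ (k + 1) = (s + 1) ^ k * (s + 1) := pow_succ _ _
    generalize (s + 1) ^ (k + 1) = T at *
    generalize (s + 1) ^ k = P at *
    generalize Nat.card {v : U // R v = 1} = N at *
    have e4 : T ≤ P * T + P := by nlinarith only [hP1]
    zify [e4] at hsplit ⊢
    zify at e3
    linear_combination -hsplit + ((T : ℤ) + 1) * e3

end Count

/-! ### small orbits -/

section Orbits

theorem dvd_card_of_orbits {G X : Type*} [Group G] [MulAction G X] [Finite X] {n : ℕ}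
    (h : ∀ x : X, n ∣ Nat.card (MulAction.orbit G x)) : n ∣ Nat.card X := by
  classical
  have := Fintype.ofFinite (MulAction.orbitRel.Quotient G X)
  rw [Nat.card_congr (MulAction.selfEquivSigmaOrbits G X), Nat.card_sigma]
  exact Finset.dvd_sum fun ω _ => h _

theorem exists_small_orbit {G X : Type*} [Group G] [Finite G] [MulAction G X] [Finite X] (hG : IsPGroup 2 G)
    {f t : ℕ} (hX : Nat.card X = 2 ^ f * t) (ht : Odd t) :
    ∃ x : X, Nat.card (MulAction.orbit G x) ≤ 2 ^ f := by
  by_contra hcon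
  push Not at hcon
  have : Fact (Nat.Prime 2) := ⟨Nat.prime_two⟩
  have h1 : 2 ^ (f + 1) ∣ Nat.card X := by
    apply dvd_card_of_orbits (G := G)
    intro x
    obtain ⟨k, hk⟩ := hG.card_orbit x
    have h2 := hcon x
    rw [hk] at h2 ⊢
    exact pow_dvd_pow 2 ((Nat.pow_lt_pow_iff_right (by norm_num)).1 h2)
  rw [hX, pow_succ] at h1
  have h3 : 2 ∣ t := Nat.dvd_of_mul_dvd_mul_left (by positivity) h1
  rw [← Nat.not_even_iff_odd] at ht
  exact ht (even_iff_two_dvd.2 h3)

end Orbits

/-! ### restrictions -/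

section Restrict

variable {K : Type*} [Field K] {U : Type*} [AddCommGroup U] [Module K U]

/-- restriction of an automorphism to an invariant subspace -/
def resEquiv (a : U ≃ₗ[K] U) (W : Submodule K U) (h : ∀ w ∈ W, a w ∈ W) (h' : ∀ w ∈ W, a⁻¹ w ∈ W) :
    W ≃ₗ[K] W where
  toFun w := ⟨a w, h w w.2⟩
  invFun w := ⟨a⁻¹ w, h' w w.2⟩
  map_add' x y := Subtype.ext (map_add a _ _)
  map_smul' c x := Subtype.ext (map_smul a _ _)
  left_inv w := Subtype.ext (a.symm_apply_apply (w : U))
  right_inv w := Subtype.ext (a.apply_symm_apply (w : U))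

/-- restriction of a group of automorphisms to an invariant subspace -/
def resHom {G : Type*} [Group G] (ρ : G →* (U ≃ₗ[K] U)) (W : Submodule K U)
    (h : ∀ g, ∀ w ∈ W, ρ g w ∈ W) : G →* (W ≃ₗ[K] W) where
  toFun g := resEquiv (ρ g) W (h g) (fun w hw => by rw [← map_inv]; exact h g⁻¹ w hw)
  map_one' := by
    ext w
    change ρ 1 (w : U) = w
    rw [map_one]
    rfl
  map_mul' g k := by
    ext w
    change ρ (g * k) (w : U) = ρ g (ρ k w)
    rw [map_mul]
    rfl

variable {R : QuadraticForm K U}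

theorem mem_perp_pair {x y v : U} :
    v ∈ perp R (Submodule.span K {x, y}) ↔ polar R x v = 0 ∧ polar R y v = 0 := by
  constructor
  · intro h
    exact ⟨h x (Submodule.subset_span (by simp)), h y (Submodule.subset_span (by simp))⟩
  · rintro ⟨h1, h2⟩ w hw
    obtain ⟨α, β, rfl⟩ := Submodule.mem_span_pair.1 hw
    rw [polar_add_left, polar_smul_left, polar_smul_left, h1, h2]
    simp

theorem nondeg_pair [CharP K 2] {x y : U} (h : polar R x y ≠ 0) :
    Nondeg (res R (Submodule.span K {x, y})) := by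
  have h2 : (2 : K) = 0 := CharTwo.two_eq_zero
  rw [nondeg_res_iff]
  intro z hz hzy
  obtain ⟨α, β, rfl⟩ := Submodule.mem_span_pair.1 hz
  have e1 := hzy x (Submodule.subset_span (by simp))
  have e2 := hzy y (Submodule.subset_span (by simp))
  rw [polar_add_left, polar_smul_left, polar_smul_left, polar_self', h2, zero_mul, smul_zero, zero_add,
    smul_eq_mul, polar_comm R y x] at e1
  rw [polar_add_left, polar_smul_left, polar_smul_left, polar_self', h2, zero_mul, smul_zero, add_zero,
    smul_eq_mul] at e2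
  rw [(mul_eq_zero.1 e1).resolve_right h, (mul_eq_zero.1 e2).resolve_right h]
  simp

theorem finrank_pair [CharP K 2] {x y : U} (h : polar R x y ≠ 0) :
    finrank K (Submodule.span K {x, y}) = 2 := by
  have h2 : (2 : K) = 0 := CharTwo.two_eq_zero
  have hi : LinearIndependent K ![x, y] := by
    rw [LinearIndependent.pair_iff]
    intro α β e
    have e1 : polar R (α • x + β • y) x = 0 := by rw [e]; exact polar_zero_left R x
    have e2 : polar R (α • x + β • y) y = 0 := by rw [e]; exact polar_zero_left R y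
    rw [polar_add_left, polar_smul_left, polar_smul_left, polar_self', h2, zero_mul, smul_zero, zero_add,
      smul_eq_mul, polar_comm R y x] at e1
    rw [polar_add_left, polar_smul_left, polar_smul_left, polar_self', h2, zero_mul, smul_zero, add_zero,
      smul_eq_mul] at e2
    exact ⟨(mul_eq_zero.1 e2).resolve_right h, (mul_eq_zero.1 e1).resolve_right h⟩
  have h3 := finrank_span_eq_card hi
  rw [Fintype.card_fin, Matrix.range_cons, Matrix.range_cons, Matrix.range_empty, Set.union_empty,
    Set.singleton_union] at h3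
  exact h3

end Restrict

/-! ### the bound -/

section Bound

variable {K : Type u} [Field K] [Finite K] [CharP K 2]

theorem exists_pow_two : ∃ n, Nat.card K = 2 ^ n := by
  have := Fintype.ofFinite K
  obtain ⟨n, hp, hn⟩ := FiniteField.card K 2
  exact ⟨n, by rw [Nat.card_eq_fintype_card, hn]⟩

/-- a `2`-group of isometries commuting with `a`, where `a + a⁻¹ = c ≠ 0` and `(a v, v) = c Q(v)`, in dimension `2m`
has at most `q ^ (m (m - 1) / 2)` elements. -/
theorem bound (m : ℕ) : ∀ {U : Type v} [AddCommGroup U] [Module K U] [FiniteDimensional K U]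
    (R : QuadraticForm K U), Nondeg R → finrank K U = 2 * m → ∀ {a : U ≃ₗ[K] U}, a ∈ O R → ∀ {c : K},
    c ≠ 0 → (∀ v, a v + a⁻¹ v = c • v) → (∀ v, polar R (a v) v = c * R v) →
    ∀ {G : Type w} [Group G] [Finite G], IsPGroup 2 G → ∀ (ρ : G →* (U ≃ₗ[K] U)), Function.Injective ρ →
    (∀ g, ρ g ∈ O R) → (∀ g v, a (ρ g v) = ρ g (a v)) → Nat.card G ^ 2 ≤ Nat.card K ^ (m * (m - 1)) := by
  induction m with
  | zero =>
    intro U _ _ _ R hR hd a ha c hc hac haQ G _ _ hG ρ hρ hO hcomm
    have hs : Subsingleton U := finrank_zero_iff.1 (by rw [hd])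
    have hG1 : Subsingleton G := ⟨fun g k => hρ (by
      ext v
      exact Subsingleton.elim _ _)⟩
    rw [Nat.card_of_subsingleton (1 : G)]
    simp
  | succ m ih =>
    intro U _ _ _ R hR hd a ha c hc hac haQ G _ _ hG ρ hρ hO hcomm
    have hfin : Finite U := Module.finite_of_finite K
    obtain ⟨t, ht, hcard⟩ := card_one hR (by omega) hd
    obtain ⟨n, hn⟩ := exists_pow_two (K := K)
    rw [Nat.add_sub_cancel, hn, ← pow_mul] at hcard
    let act : MulAction G {v : U // R v = 1} :=
      { smul := fun g v => ⟨ρ g v.1, by rw [mem_O.1 (hO g), v.2]⟩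
        one_smul := fun v => Subtype.ext (by
          change ρ 1 v.1 = v.1
          rw [map_one]
          rfl)
        mul_smul := fun g k v => Subtype.ext (by
          change ρ (g * k) v.1 = ρ g (ρ k v.1)
          rw [map_mul]
          rfl) }
    obtain ⟨x, hx⟩ := exists_small_orbit hG hcard ht
    have hsm : ∀ (g : G) (v : {v : U // R v = 1}), ((g • v : {v : U // R v = 1}) : U) = ρ g v.1 := fun _ _ => rfl
    have hGS : Nat.card (MulAction.orbit G x) * Nat.card (MulAction.stabilizer G x) = Nat.card G := by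
      have := Fintype.ofFinite G
      have := (MulAction.stabilizer G x).index_mul_card
      rw [MulAction.index_stabilizer] at this
      exact this
    set S := MulAction.stabilizer G x with hS
    have hxx : polar R x.1 (a x.1) ≠ 0 := by
      rw [polar_comm, haQ, x.2, mul_one]
      exact hc
    have hfix : ∀ g : S, ρ g x.1 = x.1 := fun g => congrArg Subtype.val (MulAction.mem_stabilizer_iff.1 g.2)
    have hfixa : ∀ g : S, ρ g (a x.1) = a x.1 := fun g => by rw [← hcomm, hfix]
    set W := perp R (Submodule.span K {x.1, a x.1}) with hW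
    have hWS : ∀ g : S, ∀ w ∈ W, (ρ.comp S.subtype) g w ∈ W := by
      intro g w hw
      rw [hW, mem_perp_pair] at hw ⊢
      change polar R x.1 (ρ g w) = 0 ∧ polar R (a x.1) (ρ g w) = 0
      constructor
      · rw [← hw.1]
        nth_rewrite 1 [← hfix g]
        exact polar_map (hO g) _ _
      · rw [← hw.2]
        nth_rewrite 1 [← hfixa g]
        exact polar_map (hO g) _ _
    have haW' : ∀ w ∈ W, a⁻¹ w ∈ W := by
      intro w hw
      rw [hW, mem_perp_pair] at hw ⊢
      have h1 : a (a x.1) = c • a x.1 - x.1 := by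
        have h2 := hac (a x.1)
        have h3 : a⁻¹ (a x.1) = x.1 := a.symm_apply_apply _
        rw [h3] at h2
        rw [← h2]
        abel
      constructor
      · rw [polar_comm, polar_inv ha, polar_comm, hw.2]
      · rw [polar_comm, polar_inv ha, h1, polar_sub_right, polar_smul_right, polar_comm R w (a x.1),
          polar_comm R w x.1, hw.1, hw.2, smul_zero, sub_zero]
    have haW : ∀ w ∈ W, a w ∈ W := by
      intro w hw
      have h1 := haW' w hw
      have h2 : a w = c • w - a⁻¹ w := by rw [← hac w]; abel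
      rw [h2]
      exact W.sub_mem (W.smul_mem c hw) h1
    have hnd : Nondeg (res R W) := nondeg_perp hR (nondeg_pair hxx)
    have hfr : finrank K W = 2 * m := by
      have := finrank_add_perp hR (Submodule.span K {x.1, a x.1})
      rw [finrank_pair hxx, hd, ← hW] at this
      omega
    have key := ih (res R W) hnd hfr (a := resEquiv a W haW haW') (by
      rw [mem_O]
      intro v
      exact mem_O.1 ha v.1) hc (fun v => Subtype.ext (hac v.1)) (fun v => haQ v.1)
      (G := S) (hG.to_subgroup S) (resHom (ρ.comp S.subtype) W hWS) ?_ (fun g => by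
        rw [mem_O]
        intro v
        exact mem_O.1 (hO g) v.1) (fun g v => Subtype.ext (hcomm g v.1))
    · have hx' : Nat.card (MulAction.orbit G x) ≤ Nat.card K ^ m := by rw [hn, ← pow_mul]; exact hx
      rw [← hGS, mul_pow, Nat.add_sub_cancel]
      calc Nat.card (MulAction.orbit G x) ^ 2 * Nat.card S ^ 2 ≤ (Nat.card K ^ m) ^ 2 * Nat.card K ^ (m * (m - 1)) :=
            Nat.mul_le_mul (Nat.pow_le_pow_left hx' 2) key
        _ = Nat.card K ^ ((m + 1) * m) := by
            rw [← pow_mul, ← pow_add]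
            congr 1
            rcases m with _ | m
            · rfl
            · rw [Nat.add_sub_cancel]
              ring
    · rw [injective_iff_map_eq_one]
      intro g hg
      have h1 : ρ (g : G) = 1 := by
        ext v
        have hv : v ∈ Submodule.span K {x.1, a x.1} ⊔ W := by
          rw [(isCompl_perp (nondeg_pair hxx)).sup_eq_top]
          trivial
        obtain ⟨y, hy, w, hw, rfl⟩ := Submodule.mem_sup.1 hv
        obtain ⟨α, β, rfl⟩ := Submodule.mem_span_pair.1 hy
        have h2 : ρ (g : G) w = w := congrArg Subtype.val (LinearEquiv.congr_fun hg ⟨w, hw⟩)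
        rw [map_add, map_add, map_smul, map_smul, hfix, hfixa, h2]
        rfl
      apply Subtype.ext
      exact hρ (by rw [h1]; exact (map_one ρ).symm)

end Bound

/-! ### the group side -/

section Fac

/-- if `G = A B` then `|A| |B| = |G| |A ∩ B|`. -/
theorem card_mul_card_of_fac {G : Type*} [Group G] [Finite G] {A B : Subgroup G}
    (h : ∀ g : G, ∃ x ∈ A, ∃ y ∈ B, g = x * y) :
    Nat.card A * Nat.card B = Nat.card G * Nat.card (B.subgroupOf A) := by
  have h1 : MulAction.stabilizer A ((1 : G) : G ⧸ B) = B.subgroupOf A := by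
    ext x
    rw [MulAction.mem_stabilizer_iff, Subgroup.mem_subgroupOf]
    change (((x : G) * 1 : G) : G ⧸ B) = ((1 : G) : G ⧸ B) ↔ _
    rw [mul_one, eq_comm, QuotientGroup.eq, inv_one, one_mul]
  have h2 : MulAction.orbit A ((1 : G) : G ⧸ B) = Set.univ := by
    rw [Set.eq_univ_iff_forall]
    intro z
    obtain ⟨g, rfl⟩ := QuotientGroup.mk_surjective z
    obtain ⟨x, hx, y, hy, rfl⟩ := h g
    refine ⟨⟨x, hx⟩, ?_⟩
    change ((x * 1 : G) : G ⧸ B) = ((x * y : G) : G ⧸ B)
    rw [mul_one, QuotientGroup.eq]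
    simpa using hy
  have h3 := MulAction.index_stabilizer A ((1 : G) : G ⧸ B)
  rw [h1, h2, Set.ncard_univ] at h3
  have h4 := (B.subgroupOf A).index_mul_card
  rw [h3] at h4
  have h5 := B.card_eq_card_quotient_mul_card_subgroup
  rw [← h4, h5]
  ring

/-- the counting contradiction -/
theorem count_false {G : Type*} [Group G] [Finite G] {A B : Subgroup G}
    (h : ∀ g : G, ∃ x ∈ A, ∃ y ∈ B, g = x * y) {z : G} (hz1 : z ≠ 1) (hz2 : z * z = 1) (hzA : z ∈ A)
    (hzB : z ∈ B) {n t : ℕ} (ht : Nat.card G = 2 ^ n * t)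
    (hA : ∀ P : Subgroup G, P ≤ A → IsPGroup 2 P → Nat.card P ^ 2 ≤ 2 ^ n)
    (hB : ∀ P : Subgroup G, P ≤ B → IsPGroup 2 P → Nat.card P ^ 2 ≤ 2 ^ n) : False := by
  have : Fact (Nat.Prime 2) := ⟨Nat.prime_two⟩
  have key : ∀ {A : Subgroup G}, (∀ P : Subgroup G, P ≤ A → IsPGroup 2 P → Nat.card P ^ 2 ≤ 2 ^ n) →
      ∃ k s, Nat.card A = 2 ^ k * s ∧ Odd s ∧ (2 ^ k) ^ 2 ≤ 2 ^ n := by
    intro A hA
    obtain ⟨P⟩ : Nonempty (Sylow 2 A) := inferInstance
    obtain ⟨k, hk⟩ := IsPGroup.iff_card.1 P.2
    have h1 := P.1.card_mul_index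
    have h2 : ¬ 2 ∣ P.1.index := P.not_dvd_index
    refine ⟨k, P.1.index, ?_, ?_, ?_⟩
    · rw [← hk]; exact h1.symm
    · rw [← Nat.not_even_iff_odd, even_iff_two_dvd]; exact h2
    · have h3 := hA (P.1.map A.subtype) (Subgroup.map_subtype_le _) (P.2.map _)
      rw [Subgroup.card_map_of_injective A.subtype_injective] at h3
      rw [← hk]
      exact h3
  obtain ⟨k, s, hAk, hs, hk⟩ := key hA
  obtain ⟨k', s', hBk, hs', hk'⟩ := key hB
  have h1 := card_mul_card_of_fac h
  have h2 : 2 ∣ Nat.card (B.subgroupOf A) := by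
    have h3 : orderOf (⟨⟨z, hzA⟩, hzB⟩ : B.subgroupOf A) = 2 := by
      refine orderOf_eq_prime ?_ ?_
      · apply Subtype.ext
        apply Subtype.ext
        change z ^ 2 = 1
        rw [pow_two, hz2]
      · intro h
        exact hz1 (congrArg (fun w : B.subgroupOf A => ((w : A) : G)) h)
    rw [← h3]
    exact orderOf_dvd_natCard _
  obtain ⟨r, hr⟩ := h2
  rw [hAk, hBk, ht, hr] at h1
  have h3 : 2 ^ (n + 1) ∣ 2 ^ (k + k') * (s * s') := by
    refine ⟨t * r, ?_⟩
    rw [pow_add, pow_succ]
    linear_combination h1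
  have hodd : Odd (s * s') := hs.mul hs'
  have h4 : 2 ^ (n + 1) ∣ 2 ^ (k + k') :=
    (Nat.Coprime.dvd_of_dvd_mul_right (Nat.Coprime.pow_left _ (Nat.coprime_two_left.2 hodd)) h3)
  have h5 : n + 1 ≤ k + k' := (Nat.pow_dvd_pow_iff_le_right (by norm_num)).1 h4
  rw [← pow_mul] at hk hk'
  have h6 : k * 2 ≤ n := (Nat.pow_le_pow_iff_right (by norm_num)).1 hk
  have h7 : k' * 2 ≤ n := (Nat.pow_le_pow_iff_right (by norm_num)).1 hk'
  omega

end Fac

/-! ### the order of `E Q` -/

section Order

/-- conjugation by a linear equivalence -/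
def cj {F V V' : Type*} [Field F] [AddCommGroup V] [Module F V] [AddCommGroup V'] [Module F V'] (e : V ≃ₗ[F] V') :
    (V ≃ₗ[F] V) ≃* (V' ≃ₗ[F] V') where
  toFun g := (e.symm.trans g).trans e
  invFun g := (e.trans g).trans e.symm
  left_inv g := by
    ext v
    simp
  right_inv g := by
    ext v
    simp
  map_mul' g k := by
    ext v
    change e (g (k (e.symm v))) = e (g (e.symm (e (k (e.symm v)))))
    rw [LinearEquiv.symm_apply_apply]

variable {F V V' : Type*} [Field F] [AddCommGroup V] [Module F V] [AddCommGroup V'] [Module F V']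

theorem cj_apply (e : V ≃ₗ[F] V') (g : V ≃ₗ[F] V) (v : V') : cj e g v = e (g (e.symm v)) := rfl

theorem map_cj_E_le {Q : QuadraticForm F V} {Q' : QuadraticForm F V'} {e : V ≃ₗ[F] V'}
    (he : ∀ v, Q' (e v) = Q v) : (E Q).map (cj e).toMonoidHom ≤ E Q' := by
  rw [E, MonoidHom.map_closure, Subgroup.closure_le]
  rintro _ ⟨_, ⟨u, w, hu, hw, rfl⟩, rfl⟩
  have e1 : cj e (siegel Q u w hu hw) = siegel Q' (e u) (e w) (by rw [he]; exact hu)
      (by rw [polar_of_equiv e he]; exact hw) := by
    ext v
    rw [cj_apply, siegel_apply, siegel_apply]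
    have h1 : polar Q' (e u) v = polar Q u (e.symm v) := by
      rw [← polar_of_equiv e he, LinearEquiv.apply_symm_apply]
    have h2 : polar Q' (e w) v = polar Q w (e.symm v) := by
      rw [← polar_of_equiv e he, LinearEquiv.apply_symm_apply]
    rw [h1, h2, he]
    simp only [map_add, map_sub, map_smul, LinearEquiv.apply_symm_apply]
  rw [MulEquiv.toMonoidHom_eq_coe, MonoidHom.coe_coe, e1]
  exact siegel_mem_E _ _

theorem card_E_congr {Q : QuadraticForm F V} {Q' : QuadraticForm F V'} {e : V ≃ₗ[F] V'}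
    (he : ∀ v, Q' (e v) = Q v) : Nat.card (E Q) = Nat.card (E Q') := by
  have h : (E Q).map (cj e).toMonoidHom = E Q' := by
    apply le_antisymm (map_cj_E_le he)
    intro g hg
    have he' : ∀ v, Q (e.symm v) = Q' v := fun v => by rw [← he, LinearEquiv.apply_symm_apply]
    have h1 : (cj e.symm) g ∈ E Q := map_cj_E_le he' ⟨g, hg, rfl⟩
    refine ⟨_, h1, ?_⟩
    ext v
    show e (e.symm (g (e.symm.symm (e.symm v)))) = g v
    simp
  rw [← h]
  exact (Subgroup.card_map_of_injective (cj e).injective).symm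

theorem card_E {K : Type u} [Field K] [Finite K] [CharP K 2] {V : Type v} [AddCommGroup V] [Module K V]
    [FiniteDimensional K V] {Q : QuadraticForm K V} (hQ : Nondeg Q) {m : ℕ} (hm : 4 ≤ m)
    (hd : finrank K V = 2 * m) : ∃ t, Nat.card (E Q) = Nat.card K ^ (m * (m - 1)) * t := by
  by_cases hP : IsPlus Q
  · obtain ⟨e, he⟩ := exists_plus_equiv m Q hQ hd hP
    obtain ⟨t, -, ht⟩ := OddHalf.Orth.KFlag.card_plus (F := K) hm
    exact ⟨t, (card_E_congr he).trans ht⟩
  · obtain ⟨a, b, hab⟩ := exists_aniso_coeff K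
    obtain ⟨k, rfl⟩ : ∃ k, m = k + 1 := ⟨m - 1, by omega⟩
    obtain ⟨e, he⟩ := exists_minus_equiv hab k Q hQ hd hP
    obtain ⟨t, -, ht⟩ := OddHalf.Orth.KFlag.card_minus (F := K) (m := k) (by omega) a b hab
    have he' : ∀ v, OrthForms.minusForm k K a b (e v) = Q v := fun v => by
      rw [← he v, OrthForms.coe_minusForm, QuadForms.coe_minusForm]
    exact ⟨t, (card_E_congr he').trans ht⟩

/-- in characteristic two a nondegenerate quadratic space has even dimension. -/
theorem even_finrank {K : Type u} [Field K] [Finite K] [CharP K 2] {V : Type v} [AddCommGroup V] [Module K V]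
    [FiniteDimensional K V] {Q : QuadraticForm K V} (hQ : Nondeg Q) : ∃ m, finrank K V = 2 * m := by
  have hA : LinearMap.BilinForm.IsAlt (polarBilin Q) := by
    intro v
    show polar Q v v = 0
    rw [polar_self', CharTwo.two_eq_zero, zero_mul]
  obtain ⟨m, k, b, -, -, -, hk⟩ := Cfsg.Agent.S0752.result (polarBilin Q) hA
  have hk0 : k = 0 := by
    by_contra hne
    exact b.ne_zero (Sum.inr (⟨0, by omega⟩ : Fin k)) (hQ _ fun v => hk _ v)
  subst hk0
  refine ⟨m, ?_⟩
  rw [Module.finrank_eq_card_basis b]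
  simp only [Fintype.card_sum, Fintype.card_fin]
  omega

end Order

/-! ### the theorem -/

section Main

variable {K : Type u} [Field K] [Finite K] [CharP K 2] {V : Type v} [AddCommGroup V] [Module K V]
  [FiniteDimensional K V]

/-- `siegel u (a u)` commutes with `a`, when `a (a u) = c (a u) - u`. -/
theorem siegel_comm {Q : QuadraticForm K V} {a : V ≃ₗ[K] V} (ha : a ∈ O Q) {c : K} {u y : V} (hu : Q u = 0)
    (huy : polar Q u y = 0) (hy : Q y = 0) (h1 : a u = y) (h2 : a y = c • y - u) :
    a * siegel Q u y hu huy = siegel Q u y hu huy * a := by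
  ext v
  change a (siegel Q u y hu huy v) = siegel Q u y hu huy (a v)
  have e1 : polar Q u v = polar Q y (a v) := by rw [← h1, polar_map ha]
  have e2 : polar Q y v = c * polar Q y (a v) - polar Q u (a v) := by
    rw [← polar_map ha y v, h2, polar_sub_left, polar_smul_left, smul_eq_mul]
  rw [siegel_apply, siegel_apply, hy]
  simp only [map_add, map_sub, map_smul, h1, h2, e1, e2]
  module

theorem e4b {Q : QuadraticForm K V} (hQ : Nondeg Q) (hn : 8 ≤ finrank K V) {a b : V ≃ₗ[K] V}
    (hab : PBad (E Q) a b) {c d : K} (hc : c ≠ 0) (hd : d ≠ 0) (hac : ∀ v, a v + a⁻¹ v = c • v)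
    (hbd : ∀ v, b v + b⁻¹ v = d • v) (haQ : ∀ v, polar Q (a v) v = c * Q v)
    (hbQ : ∀ v, polar Q (b v) v = d * Q v) : False := by
  have h2 : (2 : K) = 0 := CharTwo.two_eq_zero
  have hfin : Finite V := Module.finite_of_finite K
  have hnt : Nontrivial V := Module.nontrivial_of_finrank_pos (R := K) (by omega)
  have hfE : Finite (V ≃ₗ[K] V) := Finite.of_injective (fun g : V ≃ₗ[K] V => (g : V → V)) DFunLike.coe_injective
  -- the moved singular vectors
  have hns : ∀ {a : V ≃ₗ[K] V} {c : K}, c ≠ 0 → (∀ v, polar Q (a v) v = c * Q v) → ¬ Scalar a := by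
    rintro a c hc haQ ⟨s, hs⟩
    obtain ⟨v, hv⟩ := exists_nonsing' hQ
    have h3 := haQ v
    rw [hs, polar_smul_left, polar_self', h2, zero_mul, smul_zero] at h3
    exact (mul_ne_zero hc hv) h3.symm
  obtain ⟨u, hu, hu0, hau⟩ := exists_moved hQ (by omega) (hns hc haQ)
  obtain ⟨u', hu', hu0', hbu⟩ := exists_moved hQ (by omega) (hns hd hbQ)
  have haO : a ∈ O Q := E_le_O hab.1
  have hbO : b ∈ O Q := E_le_O hab.2.1
  have hy : Q (a u) = 0 := by rw [mem_O.1 haO, hu]
  have hy' : Q (b u') = 0 := by rw [mem_O.1 hbO, hu']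
  have huy : polar Q u (a u) = 0 := by rw [polar_comm, haQ, hu, mul_zero]
  have huy' : polar Q u' (b u') = 0 := by rw [polar_comm, hbQ, hu', mul_zero]
  have hi := indep_of_not hu0 hau
  have hi' := indep_of_not hu0' hbu
  obtain ⟨g, hg, hg1, hg2⟩ := trans_pair hQ (by omega) hu' hy' huy' hi' hu hy huy hi
  have hab' := hab.conj_right hg
  set b' := g * b * g⁻¹ with hb'
  have hgO := E_le_O hg
  have hb'O : b' ∈ O Q := E_le_O hab'.2.1
  have hb'd : ∀ v, b' v + b'⁻¹ v = d • v := by
    intro v
    have h3 : b'⁻¹ = g * b⁻¹ * g⁻¹ := by rw [hb']; group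
    rw [h3, hb']
    change g (b (g⁻¹ v)) + g (b⁻¹ (g⁻¹ v)) = d • v
    rw [← map_add, hbd, map_smul]
    congr 1
    exact g.apply_symm_apply v
  have hb'Q : ∀ v, polar Q (b' v) v = d * Q v := by
    intro v
    have h3 : v = g (g⁻¹ v) := (g.apply_symm_apply v).symm
    rw [hb']
    change polar Q (g (b (g⁻¹ v))) v = d * Q v
    nth_rewrite 2 [h3]
    rw [polar_map hgO, hbQ, mem_O.1 ((O Q).inv_mem hgO)]
  have hb'u : b' u = a u := by
    rw [hb']
    change g (b (g⁻¹ u)) = a u
    have h3 : g⁻¹ u = u' := by rw [← hg1]; exact g.symm_apply_apply _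
    rw [h3, hg2]
  -- the common involution
  have hsq : ∀ {a : V ≃ₗ[K] V} {c : K}, (∀ v, a v + a⁻¹ v = c • v) → ∀ v, a (a v) = c • a v - v := by
    intro a c hac v
    have h3 := hac (a v)
    have h4 : a⁻¹ (a v) = v := a.symm_apply_apply v
    rw [h4] at h3
    rw [← h3]
    abel
  have hz1 := siegel_comm haO hu huy hy rfl (hsq hac u)
  have hz2 := siegel_comm hb'O hu huy hy hb'u (by rw [← hb'u]; exact hsq hb'd u)
  set z := siegel Q u (a u) hu huy with hz
  have hzE : z ∈ E Q := siegel_mem_E hu huy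
  have hzz : z * z = 1 := by
    ext v
    change z (z v) = v
    have e1 : polar Q u (z v) = polar Q u v := by
      rw [hz, siegel_apply, hy, polar_sub_right, polar_sub_right, polar_add_right, polar_smul_right,
        polar_smul_right, polar_smul_right, huy, polar_self', h2]
      simp
    have e2 : polar Q (a u) (z v) = polar Q (a u) v := by
      rw [hz, siegel_apply, hy, polar_sub_right, polar_sub_right, polar_add_right, polar_smul_right,
        polar_smul_right, polar_smul_right, polar_comm Q (a u) u, huy, polar_self', h2]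
      simp
    have e3 : z (z v) = z v + polar Q u (z v) • a u - polar Q (a u) (z v) • u - (Q (a u) * polar Q u (z v)) • u :=
      siegel_apply hu huy (z v)
    have e4 : z v = v + polar Q u v • a u - polar Q (a u) v • u - (Q (a u) * polar Q u v) • u :=
      siegel_apply hu huy v
    rw [e3, e1, e2, e4, hy]
    have e5 : ∀ w : V, (2 : K) • w = 0 := fun w => by rw [h2, zero_smul]
    calc _ = v + (2 : K) • (polar Q u v • a u - polar Q (a u) v • u) := by module
      _ = v := by rw [e5, add_zero]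
  have hz0 : z ≠ 1 := by
    intro h
    obtain ⟨v, hv⟩ := hQ.exists_polar_ne hu0
    have h3 : z v = v := by rw [h]; rfl
    rw [hz, siegel_apply, hy, zero_mul, zero_smul, sub_zero] at h3
    apply hau ((polar Q u v)⁻¹ * polar Q (a u) v)
    have h4 : polar Q u v • a u = polar Q (a u) v • u := by
      rw [add_sub_assoc] at h3
      exact sub_eq_zero.1 (add_eq_left.1 h3)
    rw [mul_smul, ← h4, smul_smul, inv_mul_cancel₀ hv, one_smul]
  obtain ⟨m, hm⟩ := even_finrank hQ
  obtain ⟨t, ht⟩ := card_E hQ (m := m) (by omega) hm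
  obtain ⟨n, hn'⟩ := exists_pow_two (K := K)
  rw [hn', ← pow_mul] at ht
  have hbound : ∀ {a : V ≃ₗ[K] V} (ha : a ∈ E Q) {c : K}, c ≠ 0 → (∀ v, a v + a⁻¹ v = c • v) →
      (∀ v, polar Q (a v) v = c * Q v) → ∀ P : Subgroup ↥(E Q), P ≤ Subgroup.centralizer {⟨a, ha⟩} →
      IsPGroup 2 P → Nat.card P ^ 2 ≤ 2 ^ (n * (m * (m - 1))) := by
    intro a ha c hc hac haQ P hP hP2
    have := bound m Q hQ hm (E_le_O ha) hc hac haQ hP2 ((E Q).subtype.comp P.subtype)
      (fun x y h => Subtype.ext (Subtype.ext h)) (fun g => E_le_O g.1.2) (fun g v => by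
        have h3 := Subgroup.mem_centralizer_singleton_iff.1 (hP g.2)
        have h4 : (g.1 : V ≃ₗ[K] V) * a = a * g.1 := congrArg Subtype.val h3
        exact (LinearEquiv.congr_fun h4 v).symm)
    rw [hn', ← pow_mul] at this
    exact this
  refine count_false (G := ↥(E Q)) (A := Subgroup.centralizer {⟨a, hab.1⟩})
    (B := Subgroup.centralizer {⟨b', hab'.2.1⟩}) ?_ (z := ⟨z, hzE⟩) ?_ ?_ ?_ ?_ ht
    ((hbound hab.1 hc hac haQ :)) ((hbound hab'.2.1 hd hb'd hb'Q :))
  · rintro ⟨g, hg⟩
    obtain ⟨x, hx, y, hy, hxy, h3, h4⟩ := hab'.2.2 g hg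
    refine ⟨⟨x, hx⟩, ?_, ⟨y, hy⟩, ?_, Subtype.ext hxy⟩
    · rw [Subgroup.mem_centralizer_singleton_iff]
      apply Subtype.ext
      ext v
      exact (scomm_two hQ h2 (E_le_O hx) haO h3 v).symm
    · rw [Subgroup.mem_centralizer_singleton_iff]
      apply Subtype.ext
      ext v
      exact (scomm_two hQ h2 (E_le_O hy) hb'O h4 v).symm
  · intro h
    exact hz0 (congrArg Subtype.val h)
  · exact Subtype.ext hzz
  · rw [Subgroup.mem_centralizer_singleton_iff]
    exact Subtype.ext hz1.symm
  · rw [Subgroup.mem_centralizer_singleton_iff]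
    exact Subtype.ext hz2.symm

end Main

end Cfsg.Agent.H508.Sz
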